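import Cfsg.Agent.Lib.OrthEightTwo.Data

/-!
The tables packed into single numbers, so that a check of all pairs of indices is arithmetic on
natural numbers only.
-/

set_option autoImplicit false

namespace CfsgLib.OrthEightTwo

/-- The codes of the nonsingular vectors, one byte each. -/
def labPack : ℕ := 0xc497b5eef2a98bd8d18aa8fbefbc9ec5e3b89ac9dd8eacf7fead8fd4c893b1e2a6fddf8c98cbe9b2bbe8ca918dd6f4a789daf8a3bfe4c6959cc7e5b6a2f1d388535b7179222a363e656d474f151d464e646c232b272f747c565e1119323a626a3139131b545c777f454d444c171f353d727a5159636b262e

/-- The roots, two bytes each. -/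
def rootPack : ℕ := 0x155c0faa0dc419280d22188616a010ee0cec1850166a10b815c810160e3019940cda183e165810a615b610040e1e198215800fce0de8194c0d4618aa16c411120cd41838165210a015b00ffe0e18197c157a0fc80de219460d4018a416be110c15680fb60dd019340d2e189216ac10fa0cf8185c167610c415d410220e3c19a013ef0b641209097e06a503cc116708dc0603032a02370144113108a605cd02f40201010e00bd006c111f089405bb02e201ef00fc00ab005a003f00241119088e05b502dc01e900f600a500540039001e0015000c1117088c05b302da01e700f400a300520037001c0013000a00070004

/-- The index of a code, one byte each. -/
def idxPack : ℕ := 0x5f56006c0000456000004900733a006b7400000000514e00003d42675800005500630000460070004a005c39006f0000000000524d645b3e416877000000004300006a4f000066003c75000050590000005e610000726d48570000443b00000069003f00650053760040005a004c005d624b54716e473800000000000000001000002000063400110000210007350000002e260218000000002f2703190000001e001236000400001f0013370005002c280e0c000000002d290f0d0000000000300800001a160000310900001b1700220000002432000023010000253300000a002a0014001c000b002b0015001d0000000000000000000000000000000000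

/-- The code with a given index. -/
def labP (c : ℕ) : ℕ := labPack / 256 ^ c % 256

/-- The root with a given index. -/
def rootP (c : ℕ) : ℕ := rootPack / 65536 ^ c % 65536

/-- The index of a code. -/
def idxP (n : ℕ) : ℕ := idxPack / 256 ^ n % 256

/-- The reflection on indices. -/
def tN (c d : ℕ) : ℕ :=
  cond (Nat.beq (polN (labP c) (labP d)) 0) d (idxP (Nat.xor (labP c) (labP d)))

/-- All numbers below a bound pass a test. -/
def allB (n : ℕ) (f : ℕ → Bool) : Bool := Nat.rec true (fun k r => f k && r) n

theorem allB_spec : ∀ {n : ℕ} {f : ℕ → Bool}, allB n f = true → ∀ k < n, f k = true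
  | 0, _, _, _, hk => absurd hk (Nat.not_lt_zero _)
  | n + 1, f, h, k, hk => by
    have h' : (f n && allB n f) = true := h
    rw [Bool.and_eq_true] at h'
    rcases Nat.lt_succ_iff_lt_or_eq.1 hk with hk | rfl
    · exact allB_spec h'.2 k hk
    · exact h'.1

theorem lab_pack : ∀ c : Fin 120, labTab.getD c.val 0 = labP c.val := by decide +kernel

theorem root_pack : ∀ c : Fin 120, rootTab.getD c.val 0 = rootP c.val := by decide +kernel

theorem idx_pack : ∀ n : Fin 256, labTab.idxOf n.val % 120 = idxP n.val := by decide +kernel

theorem lab_lt (c : ℕ) : labP c < 256 := Nat.mod_lt _ (by norm_num)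

theorem tC_val (c d : Fin 120) : (tC c d).val = tN c.val d.val := by
  have hx : Nat.xor (labP c.val) (labP d.val) < 2 ^ 8 :=
    Nat.xor_lt_two_pow (lab_lt _) (lab_lt _)
  unfold tC tN
  rw [lab_pack c, lab_pack d]
  split
  next h => simp [h]
  next h =>
    have hb : Nat.beq (polN (labP c.val) (labP d.val)) 0 = false :=
      Bool.eq_false_iff.2 fun hb => h (Nat.eq_of_beq_eq_true hb)
    rw [hb, cond_false, ← idx_pack ⟨_, hx⟩]
    rfl

end CfsgLib.OrthEightTwo
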